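import Mathlib

/-!
Regularity on the fibres, in module form.
-/

open TensorProduct

namespace Groth.RelS1H

universe u

variable {A B M : Type u} [CommRing A] [CommRing B] [Algebra A B] [AddCommGroup M] [Module B M] [Module A M]
  [IsScalarTower A B M]

/-- Multiplication by `a`, linear over the base. -/
noncomputable abbrev smulHom (A : Type u) [CommRing A] [Algebra A B] [Module A M] [IsScalarTower A B M]
    (a : B) : M →ₗ[A] M :=
  (LinearMap.lsmul B M a).restrictScalars A

theorem rTensor_injective_of_forall_notMem [Algebra.FiniteType A B] [Module.Finite B M]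
    (p : Ideal A) [p.IsPrime]
    (hS1 : associatedPrimes (B ⊗[A] p.ResidueField) ((B ⊗[A] p.ResidueField) ⊗[B] M) ⊆
      (Module.annihilator (B ⊗[A] p.ResidueField) ((B ⊗[A] p.ResidueField) ⊗[B] M)).minimalPrimes)
    (a : B)
    (ha : ∀ P ∈ (Module.annihilator (B ⊗[A] p.ResidueField) ((B ⊗[A] p.ResidueField) ⊗[B] M)).minimalPrimes,
      a ⊗ₜ[A] (1 : p.ResidueField) ∉ P) :
    Function.Injective ((smulHom (M := M) A a).rTensor p.ResidueField) := by
  haveI : IsNoetherianRing (p.ResidueField ⊗[A] B) := Algebra.FiniteType.isNoetherianRing p.ResidueField _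
  haveI : IsNoetherianRing (B ⊗[A] p.ResidueField) :=
    isNoetherianRing_of_ringEquiv _ (Algebra.TensorProduct.comm A p.ResidueField B).toRingEquiv
  have hreg : IsSMulRegular ((B ⊗[A] p.ResidueField) ⊗[B] M) (a ⊗ₜ[A] (1 : p.ResidueField)) := by
    intro x y hxy
    by_contra hne
    have h' : a ⊗ₜ[A] (1 : p.ResidueField) ∈ ⋃ P ∈ associatedPrimes (B ⊗[A] p.ResidueField)
        ((B ⊗[A] p.ResidueField) ⊗[B] M), (P : Set (B ⊗[A] p.ResidueField)) := by
      rw [biUnion_associatedPrimes_eq_zero_divisors]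
      exact ⟨x - y, sub_ne_zero.2 hne, by rw [smul_sub, sub_eq_zero]; exact hxy⟩
    obtain ⟨P, hP, hmem⟩ := Set.mem_iUnion₂.1 h'
    exact ha P (hS1 hP) hmem
  let e : M ⊗[A] p.ResidueField ≃ₗ[B] (B ⊗[A] p.ResidueField) ⊗[B] M :=
    (AlgebraTensorModule.cancelBaseChange A B B M p.ResidueField).symm.trans (TensorProduct.comm B M _)
  have hcomm : ∀ z, e ((smulHom (M := M) A a).rTensor p.ResidueField z) = (a ⊗ₜ[A] (1 : p.ResidueField)) • e z := by
    intro z
    have h1 : (smulHom (M := M) A a).rTensor p.ResidueField z = a • z := by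
      induction z with
      | zero => simp
      | tmul m c => simp [smul_tmul']
      | add x y hx hy => rw [map_add, hx, hy, smul_add]
    rw [h1, map_smul, ← algebraMap_smul (B ⊗[A] p.ResidueField) a (e z), Algebra.TensorProduct.algebraMap_apply,
      Algebra.algebraMap_self, RingHom.id_apply]
  intro x y hxy
  exact e.injective (hreg (show _ • e x = _ • e y by rw [← hcomm, ← hcomm, hxy]))

end Groth.RelS1H
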