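import Groth.Agent.FlatMorOne.FlatnessCriteria
import Groth.Agent.FlatMorOne.FlatLocusOpen
import Groth.Agent.Misc6.FlatInj
import Groth.Agent.RelS1H.Fibre

/-!
An element regular on the fibres of a flat module with a flat Noetherian model is regular.
-/

open TensorProduct

namespace Groth.RelS1H

universe u

section Local

variable {A B M : Type u} [CommRing A] [CommRing B] [Algebra A B] [AddCommGroup M] [Module B M] [Module A M]
  [IsScalarTower A B M]

/-- Regularity on a tensor product passes to the localization. -/
theorem rTensor_localized_injective (a : B) (q : Ideal B) [q.IsPrime] (K : Type u) [AddCommGroup K] [Module A K]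
    (h : Function.Injective ((smulHom (M := M) A a).rTensor K)) :
    Function.Injective ((smulHom (M := LocalizedModule q.primeCompl M) A a).rTensor K) := by
  let L := LocalizedModule q.primeCompl M
  let i : M →ₗ[B] L := LocalizedModule.mkLinearMap q.primeCompl M
  have hiT : IsLocalizedModule q.primeCompl (AlgebraTensorModule.rTensor A K i) := inferInstance
  have hL : ∀ z, (smulHom (M := L) A a).rTensor K z = a • z := fun z => by
    induction z with
    | zero => simp
    | tmul m c => simp [smul_tmul']
    | add x y hx hy => rw [map_add, hx, hy, smul_add]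
  have hM : ∀ z, (smulHom (M := M) A a).rTensor K z = a • z := fun z => by
    induction z with
    | zero => simp
    | tmul m c => simp [smul_tmul']
    | add x y hx hy => rw [map_add, hx, hy, smul_add]
  rw [injective_iff_map_eq_zero]
  intro w hw
  rw [hL] at hw
  obtain ⟨⟨y, s⟩, hys⟩ := IsLocalizedModule.surj q.primeCompl (AlgebraTensorModule.rTensor A K i) w
  have h0 : AlgebraTensorModule.rTensor A K i (a • y) = 0 := by
    rw [map_smul, ← hys, smul_comm, hw, smul_zero]
  obtain ⟨t, ht⟩ := (IsLocalizedModule.eq_zero_iff q.primeCompl _).1 h0
  have hty : (t : B) • y = 0 := h (by rw [hM, map_zero, smul_comm]; exact ht)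
  have hyz : AlgebraTensorModule.rTensor A K i y = 0 :=
    (IsLocalizedModule.eq_zero_iff q.primeCompl _).2 ⟨t, hty⟩
  have hsw : (s : B) • w = 0 := hys.trans hyz
  exact (IsLocalizedModule.map_units (AlgebraTensorModule.rTensor A K i) s |>
    (Module.End.isUnit_iff _).1).1 (by simpa using hsw)

/-- At a prime, injective on the fibre gives injective after localization and any base change. -/
theorem exists_notMem_smul_eq_zero [IsNoetherianRing B] [Module.Finite B M] [Module.Flat A M] (a : B)
    (q : Ideal B) [q.IsPrime] (p : Ideal A) [p.IsPrime] (hp : p = q.comap (algebraMap A B))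
    (h : Function.Injective ((smulHom (M := M) A a).rTensor p.ResidueField))
    (N : Type u) [AddCommGroup N] [Module A N] (z : M ⊗[A] N)
    (hz : (smulHom (M := M) A a).rTensor N z = 0) : ∃ s ∉ q, s • z = 0 := by
  let Al := Localization.AtPrime p
  let Bl := Localization.AtPrime q
  let φ : Al →+* Bl := Localization.localRingHom p q (algebraMap A B) hp
  letI : Algebra Al Bl := φ.toAlgebra
  haveI : IsLocalHom (algebraMap Al Bl) := Localization.isLocalHom_localRingHom p q (algebraMap A B) hp
  haveI : IsNoetherianRing Bl := IsLocalization.isNoetherianRing q.primeCompl Bl inferInstance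
  let L := LocalizedModule q.primeCompl M
  letI : Module Al L := Module.compHom L φ
  haveI : IsScalarTower Al Bl L := IsScalarTower.of_algebraMap_smul fun _ _ => rfl
  haveI : IsScalarTower A Al L := IsScalarTower.of_algebraMap_smul fun r x => by
    show φ (algebraMap A Al r) • x = r • x
    rw [show φ (algebraMap A Al r) = algebraMap B Bl (algebraMap A B r) from Localization.localRingHom_to_map p q _ hp r,
      algebraMap_smul, algebraMap_smul]
  haveI : IsScalarTower A B L := IsScalarTower.of_algebraMap_smul fun r x => algebraMap_smul B r x
  let i : M →ₗ[B] L := LocalizedModule.mkLinearMap q.primeCompl M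
  haveI : Module.Flat A L := Groth.FlatMorOne.flat_localized_of_flat q.primeCompl
  haveI : Module.Flat Al L := (Module.flat_iff_of_isLocalization Al p.primeCompl L).2 inferInstance
  haveI : Module.Finite Bl L := inferInstance
  have hK : Function.Injective ((smulHom (M := L) A a).rTensor p.ResidueField) :=
    rTensor_localized_injective a q p.ResidueField h
  let u : L →ₗ[Al] L := (LinearMap.lsmul Bl L (algebraMap B Bl a)).restrictScalars Al
  have hu : ∀ x, u x = a • x := fun x => algebraMap_smul Bl a x
  have hK' : Function.Injective (u.lTensor (IsLocalRing.ResidueField Al)) := by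
    haveI : CompatibleSMul A Al (IsLocalRing.ResidueField Al) L :=
      IsLocalization.tensorProduct_compatibleSMul p.primeCompl Al _ _
    let e : IsLocalRing.ResidueField Al ⊗[Al] L ≃ₗ[A] L ⊗[A] p.ResidueField :=
      (TensorProduct.equivOfCompatibleSMul A Al A (IsLocalRing.ResidueField Al) L).trans (TensorProduct.comm A _ _)
    have he : ∀ z, e (u.lTensor _ z) = (smulHom (M := L) A a).rTensor p.ResidueField (e z) := fun z => by
      induction z with
      | zero => simp
      | tmul c m => simp only [e, LinearEquiv.trans_apply, LinearMap.lTensor_tmul, hu]; rfl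
      | add x y hx hy => simp only [map_add, hx, hy]
    intro x y hxy
    exact e.injective (hK (by rw [← he, ← he, hxy]))
  obtain ⟨hinj, hflat⟩ := Groth.FlatMorOne.injective_and_flat_coker Bl u hK'
  haveI : Module.Flat A (L ⧸ LinearMap.range u) := Module.Flat.trans A Al _
  have hN : Function.Injective ((u.restrictScalars A).lTensor N) :=
    Groth.Misc6.flatInj N (u.restrictScalars A) ((LinearMap.range u).mkQ.restrictScalars A) hinj
      (LinearMap.exact_map_mkQ_range u) (Submodule.mkQ_surjective _)
  have hN' : Function.Injective ((u.restrictScalars A).rTensor N) :=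
    (LinearMap.lTensor_inj_iff_rTensor_inj N _).1 hN
  have h0 : (u.restrictScalars A).rTensor N (AlgebraTensorModule.rTensor A N i z) = 0 := by
    have e : ∀ z, (u.restrictScalars A).rTensor N (AlgebraTensorModule.rTensor A N i z) =
        AlgebraTensorModule.rTensor A N i ((smulHom (M := M) A a).rTensor N z) := fun z => by
      induction z with
      | zero => simp
      | tmul m c => simp [hu]
      | add x y hx hy => simp only [map_add, hx, hy]
    rw [e, hz, map_zero]
  obtain ⟨s, hs⟩ := (IsLocalizedModule.eq_zero_iff q.primeCompl (AlgebraTensorModule.rTensor A N i)).1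
    (hN' (h0.trans (map_zero _).symm))
  exact ⟨s, s.2, hs⟩

end Local

/-- An element regular on every fibre of a flat module with a flat Noetherian model is regular. -/
theorem isSMulRegular_of_model {A' A B' B M' M : Type u} [CommRing A'] [CommRing A] [CommRing B'] [CommRing B]
    [Algebra A' A] [Algebra A' B'] [Algebra A B] [IsNoetherianRing B']
    [AddCommGroup M'] [Module B' M'] [Module A' M'] [IsScalarTower A' B' M'] [Module.Finite B' M'] [Module.Flat A' M']
    [AddCommGroup M] [Module B M] [Module A M] [IsScalarTower A B M] [Module A' M] [IsScalarTower A' A M]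
    (β : M' →ₗ[A'] M) (hβ : IsBaseChange A β) (σ : B' →+* B)
    (hσ : ∀ r, σ (algebraMap A' B' r) = algebraMap A B (algebraMap A' A r))
    (hsmul : ∀ (s : B') x, β (s • x) = σ s • β x)
    (a : B) (a' : B') (ha : σ a' = a)
    (h : ∀ (p : Ideal A) [p.IsPrime], Function.Injective ((smulHom (M := M) A a).rTensor p.ResidueField)) :
    IsSMulRegular M a := by
  intro x y hxy
  rw [← sub_eq_zero]
  have hm : a • (x - y) = 0 := by rw [smul_sub, sub_eq_zero]; exact hxy
  generalize x - y = m at hm ⊢
  let e : M' ⊗[A'] A ≃ₗ[A'] M := (TensorProduct.comm A' M' A).trans (hβ.equiv.restrictScalars A')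
  have he : ∀ (s : B') z, e (s • z) = σ s • e z := by
    intro s z
    induction z with
    | zero => simp
    | tmul x r =>
      simp only [e, smul_tmul', LinearEquiv.trans_apply, TensorProduct.comm_tmul, LinearEquiv.restrictScalars_apply,
        IsBaseChange.equiv_tmul, hsmul]
      exact smul_comm r (σ s) (β x)
    | add x y hx hy => simp only [smul_add, map_add, hx, hy]
  have hu : ∀ (s : B') (z : M' ⊗[A'] A), (smulHom (M := M') A' s).rTensor A z = s • z := fun s z => by
    induction z with
    | zero => simp
    | tmul m c => simp [smul_tmul']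
    | add x y hx hy => rw [map_add, hx, hy, smul_add]
  obtain ⟨z, rfl⟩ := e.surjective m
  have hz : (smulHom (M := M') A' a').rTensor A z = 0 :=
    e.injective (by rw [hu, he, ha, hm, map_zero])
  let J : Ideal B' := LinearMap.ker (LinearMap.toSpanSingleton B' (M' ⊗[A'] A) z)
  suffices hJ : J.map σ = ⊤ by
    have hle : J.map σ ≤ LinearMap.ker (LinearMap.toSpanSingleton B M (e z)) := by
      rw [Ideal.map_le_iff_le_comap]
      intro s hs
      show σ s • e z = 0
      rw [← he, show s • z = 0 from hs, map_zero]
    simpa using hle (hJ ▸ Submodule.mem_top : (1 : B) ∈ J.map σ)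
  by_contra hne
  obtain ⟨Q, hQ, hJQ⟩ := Ideal.exists_le_maximal _ hne
  let q : Ideal B' := Q.comap σ
  let p : Ideal A := Q.comap (algebraMap A B)
  let p' : Ideal A' := q.comap (algebraMap A' B')
  have hp' : p' = p.comap (algebraMap A' A) := by
    ext r
    simp [p', p, q, hσ]
  letI : Algebra p'.ResidueField p.ResidueField :=
    (Ideal.ResidueField.map p' p (algebraMap A' A) hp').toAlgebra
  haveI : IsScalarTower A' p'.ResidueField p.ResidueField := IsScalarTower.of_algebraMap_eq fun r => by
    rw [IsScalarTower.algebraMap_apply A' A p.ResidueField]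
    exact (Ideal.ResidueField.map_algebraMap p' p (algebraMap A' A) hp' r).symm
  let j : p'.ResidueField →ₗ[A'] p.ResidueField :=
    (Algebra.linearMap p'.ResidueField p.ResidueField).restrictScalars A'
  obtain ⟨g, hg⟩ := LinearMap.exists_leftInverse_of_injective (Algebra.linearMap p'.ResidueField p.ResidueField)
    (LinearMap.ker_eq_bot.2 (algebraMap p'.ResidueField p.ResidueField).injective)
  have hjinj : Function.Injective (j.lTensor M') := by
    refine Function.LeftInverse.injective (g := (g.restrictScalars A').lTensor M') fun w => ?_
    rw [← LinearMap.comp_apply, ← LinearMap.lTensor_comp,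
      show g.restrictScalars A' ∘ₗ j = LinearMap.id from LinearMap.ext fun c => LinearMap.congr_fun hg c,
      LinearMap.lTensor_id, LinearMap.id_apply]
  let f : M ⊗[A] p.ResidueField ≃ₗ[A'] M' ⊗[A'] p.ResidueField :=
    ((TensorProduct.comm A M p.ResidueField).restrictScalars A').trans <|
      ((AlgebraTensorModule.congr (LinearEquiv.refl p.ResidueField p.ResidueField) hβ.equiv.symm).restrictScalars A').trans <|
        ((AlgebraTensorModule.cancelBaseChange A' A p.ResidueField p.ResidueField M').restrictScalars A').trans
          (TensorProduct.comm A' p.ResidueField M')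
  have hf : ∀ (x : M') (c : p.ResidueField), f.symm (x ⊗ₜ c) = β x ⊗ₜ c := fun x c => by
    simp [f, IsBaseChange.equiv_tmul]
  have hfib : Function.Injective ((smulHom (M := M') A' a').rTensor p'.ResidueField) := by
    have hcomm : ∀ w, f.symm ((smulHom (M := M') A' a').rTensor p.ResidueField w) =
        (smulHom (M := M) A a).rTensor p.ResidueField (f.symm w) := fun w => by
      induction w with
      | zero => simp
      | tmul x c => simp [hf, hsmul, ha]
      | add x y hx hy => simp only [map_add, hx, hy]
    intro v w hvw
    refine hjinj (f.symm.injective (h p ?_))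
    rw [← hcomm, ← hcomm]
    congr 1
    rw [← LinearMap.comp_apply, ← LinearMap.comp_apply, LinearMap.rTensor_comp_lTensor,
      ← LinearMap.lTensor_comp_rTensor, LinearMap.comp_apply, LinearMap.comp_apply, hvw]
  obtain ⟨s, hs, hs0⟩ := exists_notMem_smul_eq_zero a' q p' rfl hfib A z hz
  exact hs (hJQ (Ideal.mem_map_of_mem σ (show s ∈ J from hs0)))

end Groth.RelS1H
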